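/-
helper6: BT-[STAB-P] (project BT = S2154, helper35's sheet) in `_of` form.
`mem_parabolic_of hD Bd y hy hB hneg g hg h1 h2 : g ∈ P_(Jof y)` where `hB` is the statement of [FIL-B] (`fil_borel`) at
`Bd.X, y` and `hneg` the statement of [NEG-X] (`le_zero_of_fil_neg_simple`) at `Bd, y`.
-/
import Cfsg.Agent.Lib.Helper35.BT.Defs
import Cfsg.Agent.S1047
import Cfsg.Agent.S1042
import Cfsg.Agent.Lib.Helper6.BNParabolic

set_option autoImplicit false

namespace Cfsg.Agent.Lib.Helper6.BT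

open Cfsg Cfsg.Lie Cfsg.Agent.Lib.Helper18 Cfsg.Agent.Lib.Helper61.ChevJ Cfsg.Agent.Lib.Helper35.BT
  Cfsg.Agent.Lib.Helper6 Matrix

universe u

variable {D : ChevalleyDatum} {F : Type u} [Field F]

/-- the subgroup of the elements `g` of the Chevalley group with `g` and `g⁻¹` preserving the `y`-filtration -/
def stabFil (X : JData.{u} D) (y : Y D) : Subgroup ↥(D.group F) where
  carrier := {g | Fil X y 0 ((g : GL D.Idx F) : Matrix D.Idx D.Idx F) ∧
    Fil X y 0 (((g : GL D.Idx F)⁻¹ : GL D.Idx F) : Matrix D.Idx D.Idx F)}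
  mul_mem' := by
    rintro a b ⟨ha1, ha2⟩ ⟨hb1, hb2⟩
    refine ⟨?_, ?_⟩
    · have := ha1.mul hb1
      rw [add_zero] at this
      simpa using this
    · have := hb2.mul ha2
      rw [add_zero] at this
      simpa [_root_.mul_inv_rev] using this
  one_mem' := by
    refine ⟨?_, ?_⟩
    · simpa using Fil.one (X := X) (F := F) y
    · simpa using Fil.one (X := X) (F := F) y
  inv_mem' := by
    rintro a ⟨ha1, ha2⟩
    refine ⟨?_, ?_⟩
    · simpa using ha2
    · simpa using ha1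

theorem mem_stabFil (X : JData.{u} D) (y : Y D) (g : ↥(D.group F)) :
    g ∈ stabFil (F := F) X y ↔ Fil X y 0 ((g : GL D.Idx F) : Matrix D.Idx D.Idx F) ∧
      Fil X y 0 (((g : GL D.Idx F)⁻¹ : GL D.Idx F) : Matrix D.Idx D.Idx F) := Iff.rfl

theorem mem_parabolic_of (hD : D ∈ [chevG2, chevB2, chevD4, chevF4, chevE6, chevE7, chevE8]) (Bd : BTData.{u} D)
    (y : Y D) (hy : Dom y)
    (hB : ∀ b : GL D.Idx F, b ∈ D.borelSubgroup F →
      Fil Bd.X y 0 (b : Matrix D.Idx D.Idx F) ∧ Fil Bd.X y 0 ((b⁻¹ : GL D.Idx F) : Matrix D.Idx D.Idx F))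
    (hneg : ∀ (i : Fin D.rank) (t : F), t ≠ 0 → Fil Bd.X y 0 (D.x F (D.neg (D.simple i)) t) → y i ≤ 0)
    (g : GL D.Idx F) (hg : g ∈ D.group F)
    (h1 : Fil Bd.X y 0 (g : Matrix D.Idx D.Idx F))
    (h2 : Fil Bd.X y 0 ((g⁻¹ : GL D.Idx F) : Matrix D.Idx D.Idx F)) :
    g ∈ D.parabolicSubgroup F (Jof y) := by
  obtain ⟨hBG, hNG, -⟩ := Cfsg.Agent.S1043.result (F := F) D hD
  obtain ⟨P, hPB, hPN, hPS⟩ := Cfsg.Agent.S1042.exists_bnPair (F := F) D hD Bd.X.C
  set M : Subgroup ↥(D.group F) := stabFil (F := F) Bd.X y with hMdef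
  have hBM : P.B ≤ M := by
    intro b hb
    rw [hPB, Subgroup.mem_subgroupOf] at hb
    rw [hMdef, mem_stabFil]
    exact hB _ hb
  have hM := eq_parabolic_of_B_le P hBM
  have hle : M ≤ (D.parabolicSubgroup F (Jof y)).subgroupOf (D.group F) := by
    rw [hM]
    unfold Cfsg.BNPair.parabolic
    refine sup_le ?_ ?_
    · intro b hb
      rw [hPB, Subgroup.mem_subgroupOf] at hb
      rw [Subgroup.mem_subgroupOf]
      exact le_sup_left (a := D.borelSubgroup F) hb
    · rw [Subgroup.closure_le]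
      rintro s ⟨hsS, hsM⟩
      rw [hPS] at hsS
      obtain ⟨i, hi, hs⟩ := hsS
      have hsi : (s : GL D.Idx F) = sG hD Bd.X.C i := Units.ext (by rw [hs, coe_sG hD Bd.X.C i hi])
      show s ∈ (D.parabolicSubgroup F (Jof y)).subgroupOf (D.group F)
      rw [Subgroup.mem_subgroupOf, hsi]
      by_cases hiJ : i ∈ Jof y
      · exact Cfsg.Agent.S1047.sG_mem_parabolic hD Bd.X.C (Jof y) i hi hiJ
      · exfalso
        have hp := Bd.X.C.simple_lt i hi
        have hpge := Bd.X.C.half_le_simple i hi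
        have hpos : D.IsPosRoot (D.simple i) := (isPosRoot_iff hD _).mpr ⟨hp, hpge⟩
        -- `y i > 0`
        have hyi : 0 < y ⟨i, hi⟩ := by
          rcases (hy ⟨i, hi⟩).lt_or_eq with h | h
          · exact h
          · exact absurd ⟨hi, h.symm⟩ hiJ
        -- `x_{p_i}(1)` lies in `B`
        have hxB : xG hD (D.simple i) (1 : F) ∈ D.borelSubgroup F :=
          borel_of_posUnipotent _ (xG_mem_posUnipotent hD _ _ hpos)
        have hx := hB _ hxB
        rw [hMdef, mem_stabFil, hsi] at hsM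
        have h3 := (hsM.1.mul hx.1).mul hsM.2
        rw [add_zero, add_zero] at h3
        have h4 : ((sG hD Bd.X.C i : GL D.Idx F) : Matrix D.Idx D.Idx F) *
            ((xG hD (D.simple i) (1 : F) : GL D.Idx F) : Matrix D.Idx D.Idx F) *
            (((sG hD Bd.X.C i)⁻¹ : GL D.Idx F) : Matrix D.Idx D.Idx F) =
            D.x F (D.neg (D.simple i)) ((Bd.X.C.eta i (D.simple i) : F) * 1) := by
          rw [← Units.val_mul, ← Units.val_mul, sG_conj_xG_simple hD Bd.X.C i hi, coe_xG,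
            Bd.X.C.neg_eq _ hp]
        rw [h4] at h3
        have := hneg ⟨i, hi⟩ _ (mul_ne_zero (Bd.X.C.eta_ne_zero i _) one_ne_zero) h3
        linarith
  have hgM : (⟨g, hg⟩ : ↥(D.group F)) ∈ M := by
    rw [hMdef, mem_stabFil]
    exact ⟨h1, h2⟩
  have := hle hgM
  rwa [Subgroup.mem_subgroupOf] at this

end Cfsg.Agent.Lib.Helper6.BT
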