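/-
helper6: BT-[STAB-P] (project BT = S2154, helper35's sheet), exact statement:
`g` and `g⁻¹` preserving the filtration of a dominant `y` ⇒ `g ∈ P_(Jof y)`.
(`mem_parabolic_of` + helper34's [FIL-B] `fil_borel` and [NEG-X] `le_zero_of_fil_neg_simple`.)
-/
import Cfsg.Agent.Lib.Helper6.BT.StabPOf
import Cfsg.Agent.Lib.Helper34.BT.FilBRho
import Cfsg.Agent.Lib.Helper34.BT.NegX

set_option autoImplicit false

namespace Cfsg.Agent.Lib.Helper35.BT

open Cfsg Cfsg.Lie Cfsg.Agent.Lib.Helper18 Cfsg.Agent.Lib.Helper61.ChevJ Matrix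

universe u

variable {D : ChevalleyDatum}

variable {F : Type u} [Field F]

theorem mem_parabolic (hD : D ∈ [chevG2, chevB2, chevD4, chevF4, chevE6, chevE7, chevE8]) (Bd : BTData.{u} D)
    (y : Y D) (hy : Dom y) (g : GL D.Idx F) (hg : g ∈ D.group F)
    (h1 : Fil Bd.X y 0 (g : Matrix D.Idx D.Idx F))
    (h2 : Fil Bd.X y 0 ((g⁻¹ : GL D.Idx F) : Matrix D.Idx D.Idx F)) :
    g ∈ D.parabolicSubgroup F (Jof y) :=
  Cfsg.Agent.Lib.Helper6.BT.mem_parabolic_of hD Bd y hy (fun b hb => fil_borel hD Bd.X y hy b hb)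
    (fun i t ht h => le_zero_of_fil_neg_simple hD Bd y i t ht h) g hg h1 h2

end Cfsg.Agent.Lib.Helper35.BT
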