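/-
helper6: BT-[SYLOW] (project BT = S2154, helper35's sheet): a `p`-subgroup of the Chevalley group `D.group F`
(`p` the characteristic) is conjugate, inside the group, into `U = D.posUnipotent F`.
-/
import Cfsg.Agent.Lib.Helper6.AutSYL

set_option autoImplicit false

namespace Cfsg.Agent.Lib.Helper35.BT

open Cfsg Cfsg.Lie Matrix

universe u

variable {D : ChevalleyDatum}

variable {F : Type u} [Field F]

theorem exists_conj_mem_posUnipotent [Fintype F] (p : ℕ) [Fact p.Prime] [CharP F p]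
    (hD : D ∈ [chevG2, chevB2, chevD4, chevF4, chevE6, chevE7, chevE8]) (V : Subgroup (GL D.Idx F))
    (hVG : V ≤ D.group F) (hV : IsPGroup p V) :
    ∃ g ∈ D.group F, ∀ v ∈ V, g⁻¹ * v * g ∈ D.posUnipotent F := by
  classical
  have hp : Fact p.Prime := inferInstance
  obtain ⟨n, -, hn⟩ := FiniteField.card F p
  have hpq : p ∣ Fintype.card F := by
    rw [hn]
    exact dvd_pow_self p n.ne_zero
  have hUG : D.posUnipotent F ≤ D.group F := Cfsg.Agent.S1043.posUnipotent_le_group D hD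
  have hidx := Cfsg.Agent.Lib.Helper6.Aut.not_dvd_index_posUnipotent (F := F) hD hp.out hpq
  have hPG : IsPGroup p ↥((D.posUnipotent F).subgroupOf (D.group F)) :=
    (Cfsg.Agent.Lib.Helper6.Aut.isPGroup_posUnipotent (F := F) hD p).of_equiv
      (Subgroup.subgroupOfEquivOfLe hUG).symm
  let P : Sylow p ↥(D.group F) := hPG.toSylow hidx
  have hV' : IsPGroup p ↥(V.subgroupOf (D.group F)) := hV.comap_subtype
  have : Finite ↥(D.group F) := inferInstance
  obtain ⟨Q, hQ⟩ := hV'.exists_le_sylow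
  obtain ⟨x, hx⟩ := MulAction.exists_smul_eq ↥(D.group F) P Q
  refine ⟨(x : GL D.Idx F), x.2, ?_⟩
  intro v hv
  have hvQ : (⟨v, hVG hv⟩ : ↥(D.group F)) ∈ (Q : Subgroup ↥(D.group F)) :=
    hQ (Subgroup.mem_subgroupOf.mpr hv)
  rw [← hx, Sylow.coe_subgroup_smul, Subgroup.mem_pointwise_smul_iff_inv_smul_mem] at hvQ
  have hmem : x⁻¹ * (⟨v, hVG hv⟩ : ↥(D.group F)) * x ∈ (D.posUnipotent F).subgroupOf (D.group F) := by
    have e : (MulAut.conj x)⁻¹ • (⟨v, hVG hv⟩ : ↥(D.group F)) = x⁻¹ * (⟨v, hVG hv⟩ : ↥(D.group F)) * x := by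
      rw [MulAut.smul_def, MulAut.conj_inv_apply]
    rw [← e]
    exact hvQ
  exact Subgroup.mem_subgroupOf.mp hmem

end Cfsg.Agent.Lib.Helper35.BT
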