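/-
helper6: BT-[UNIP-U] (project BT = S2154, helper35's sheet) in `_of` form (hedge).
`mem_unipotentRadical_of hD Bd y hy hinv hUJ g hg c hc h : g ∈ U_(Jof y)` where `hinv` is the statement of [FIL-INV]
(`fil_inv`) at `Bd.X, y` and `hUJ` the statement of [UJ-FIL] (`exists_fil_unipotentRadical`) at `Bd.X, y`.
-/
import Cfsg.Agent.Lib.Helper6.BT.StabP
import Cfsg.Agent.Lib.Helper72.BT.LeviWt
import Cfsg.Agent.S1048

set_option autoImplicit false

namespace Cfsg.Agent.Lib.Helper6.BT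

open Cfsg Cfsg.Lie Cfsg.Agent.Lib.Helper18 Cfsg.Agent.Lib.Helper61.ChevJ Cfsg.Agent.Lib.Helper35.BT
  Cfsg.Agent.Lib.Helper34.BT Matrix

universe u

variable {D : ChevalleyDatum} {F : Type u} [Field F]

theorem mem_unipotentRadical_of (hD : D ∈ [chevG2, chevB2, chevD4, chevF4, chevE6, chevE7, chevE8])
    (Bd : BTData.{u} D) (y : Y D) (hy : Dom y)
    (hinv : ∀ c : ℝ, 0 < c → ∀ g : GL D.Idx F, Fil Bd.X y c ((g : Matrix D.Idx D.Idx F) - 1) →
      Fil Bd.X y c (((g⁻¹ : GL D.Idx F) : Matrix D.Idx D.Idx F) - 1))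
    (hUJ : ∃ c : ℝ, 0 < c ∧
      ∀ u ∈ D.unipotentRadical F (Jof y), Fil Bd.X y c ((u : Matrix D.Idx D.Idx F) - 1))
    (g : GL D.Idx F) (hg : g ∈ D.group F) (c : ℝ) (hc : 0 < c)
    (h : Fil Bd.X y c ((g : Matrix D.Idx D.Idx F) - 1)) : g ∈ D.unipotentRadical F (Jof y) := by
  have h1 : Fil Bd.X y 0 (g : Matrix D.Idx D.Idx F) := fil_zero_of_sub_one hc.le h
  have h2 : Fil Bd.X y 0 ((g⁻¹ : GL D.Idx F) : Matrix D.Idx D.Idx F) :=
    fil_zero_of_sub_one hc.le (hinv c hc g h)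
  have hP := mem_parabolic hD Bd y hy g hg h1 h2
  obtain ⟨hnorm, hsup, -⟩ := Cfsg.Agent.S1048.result (F := F) D hD (Jof y)
  have hLn : D.leviSubgroup F (Jof y) ≤
      Subgroup.normalizer (D.unipotentRadical F (Jof y) : Set (GL D.Idx F)) :=
    (le_sup_right.trans hsup.le).trans hnorm
  have hset := Subgroup.coe_mul_of_right_le_normalizer_left (D.unipotentRadical F (Jof y))
    (D.leviSubgroup F (Jof y)) hLn
  have hg' : g ∈ ((D.unipotentRadical F (Jof y) ⊔ D.leviSubgroup F (Jof y) : Subgroup (GL D.Idx F)) :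
      Set (GL D.Idx F)) := by
    rw [hsup]
    exact hP
  rw [hset] at hg'
  obtain ⟨u, hu, l, hl, rfl⟩ := Set.mem_mul.mp hg'
  obtain ⟨c', hc', hU⟩ := hUJ
  have hc'' : 0 < min c c' := lt_min hc hc'
  have hu1 : Fil Bd.X y (min c c') (((u⁻¹ : GL D.Idx F) : Matrix D.Idx D.Idx F) - 1) :=
    (hinv c' hc' u (hU u hu)).mono (min_le_right _ _)
  have hg1 : Fil Bd.X y (min c c') (((u * l : GL D.Idx F) : Matrix D.Idx D.Idx F) - 1) :=
    h.mono (min_le_left _ _)
  have hl1 : Fil Bd.X y (min c c') ((l : Matrix D.Idx D.Idx F) - 1) := by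
    have e : (l : Matrix D.Idx D.Idx F) =
        ((u⁻¹ : GL D.Idx F) : Matrix D.Idx D.Idx F) * ((u * l : GL D.Idx F) : Matrix D.Idx D.Idx F) := by
      rw [← Units.val_mul, inv_mul_cancel_left]
    rw [e]
    exact fil_sub_one_mul hc''.le hu1 hg1
  have hl_one : (l : Matrix D.Idx D.Idx F) = 1 := by
    ext a b
    by_contra hne
    have hne' : ((l : Matrix D.Idx D.Idx F) - 1) a b ≠ 0 := by
      rw [Matrix.sub_apply]
      exact sub_ne_zero.mpr hne
    have hw := hl1 a b hne'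
    by_cases hab : a = b
    · subst hab
      linarith
    · have hlab : (l : Matrix D.Idx D.Idx F) a b ≠ 0 := by
        rw [Matrix.sub_apply, Matrix.one_apply_ne hab, sub_zero] at hne'
        exact hne'
      have := levi_wt hD Bd.X y l hl a b hlab
      linarith
  have hl1' : l = 1 := Units.ext hl_one
  rw [hl1', mul_one]
  exact hu

end Cfsg.Agent.Lib.Helper6.BT
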